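import Mathlib
import Cfsg.Agent.Lib.Helper5.MinIdx.Conj
import Cfsg.Agent.Lib.Helper5.MinIdx.Lin
import Cfsg.Agent.Lib.Helper44.SUg

/-!
# Ladder SLWEIL (S2332): definitions

`G = SL_{m+1}(F)`; `rad y = 1 + e0 (0,y)ᵀ` (transvections with centre `e0`), `lev A = diag(1, A)`,
`EE ψ R c` the projection onto the `rad`-weight space of weight `c`.
-/

set_option autoImplicit false

namespace Cfsg.Agent.Lib.Helper44.SLW

open Matrix
open Cfsg.Agent.Lib.Helper5.MinIdx
open Cfsg.Agent.Lib.Helper18.AutPSL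

variable {F : Type*} [Field F] {m : ℕ}

/-- the first basis vector -/
def e0 : Fin (m + 1) → F := Pi.single 0 1

theorem cons_dot_cons (s t : F) (c y : Fin m → F) :
    (Fin.cons s c : Fin (m + 1) → F) ⬝ᵥ (Fin.cons t y : Fin (m + 1) → F) = s * t + c ⬝ᵥ y := by
  simp [dotProduct, Fin.sum_univ_succ]

theorem e0_eq_cons : (e0 : Fin (m + 1) → F) = Fin.cons 1 0 := by
  funext i
  refine Fin.cases ?_ (fun j => ?_) i
  · simp [e0]
  · simp [e0, Fin.succ_ne_zero]

theorem cons_zero_dot_e0 (y : Fin m → F) : (Fin.cons 0 y : Fin (m + 1) → F) ⬝ᵥ e0 = 0 := by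
  rw [e0_eq_cons, cons_dot_cons]; simp

/-- the transvections with centre `e0` -/
noncomputable def rad (y : Fin m → F) : SpecialLinearGroup (Fin (m + 1)) F :=
  tr e0 (Fin.cons 0 y)

theorem rad_add (x y : Fin m → F) : rad (x + y) = rad x * rad y := by
  unfold rad
  rw [← tr_add_right (cons_zero_dot_e0 x) (cons_zero_dot_e0 y)]
  congr 1
  funext i
  refine Fin.cases ?_ (fun j => ?_) i <;> simp

/-- the matrix `diag(1, A)` -/
def levMat (A : Matrix (Fin m) (Fin m) F) : Matrix (Fin (m + 1)) (Fin (m + 1)) F :=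
  Matrix.of (Fin.cons (Fin.cons 1 0) (fun i => Fin.cons 0 (A i)))

theorem levMat_mulVec (A : Matrix (Fin m) (Fin m) F) (s : F) (c : Fin m → F) :
    levMat A *ᵥ (Fin.cons s c : Fin (m + 1) → F) = Fin.cons s (A *ᵥ c) := by
  funext i
  refine Fin.cases ?_ (fun j => ?_) i
  · simp [levMat, mulVec, dotProduct, Fin.sum_univ_succ]
  · simp [levMat, mulVec, dotProduct, Fin.sum_univ_succ]

theorem vecMul_levMat (A : Matrix (Fin m) (Fin m) F) (s : F) (c : Fin m → F) :
    (Fin.cons s c : Fin (m + 1) → F) ᵥ* levMat A = Fin.cons s (c ᵥ* A) := by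
  funext i
  refine Fin.cases ?_ (fun j => ?_) i
  · simp [levMat, vecMul, dotProduct, Fin.sum_univ_succ]
  · simp [levMat, vecMul, dotProduct, Fin.sum_univ_succ]

theorem levMat_mul (A B : Matrix (Fin m) (Fin m) F) : levMat (A * B) = levMat A * levMat B := by
  rw [Matrix.ext_iff_mulVec]
  intro v
  rw [← Fin.cons_self_tail v, ← mulVec_mulVec, levMat_mulVec, levMat_mulVec, levMat_mulVec,
    mulVec_mulVec]

theorem levMat_one : levMat (1 : Matrix (Fin m) (Fin m) F) = 1 := by
  rw [Matrix.ext_iff_mulVec]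
  intro v
  rw [← Fin.cons_self_tail v, levMat_mulVec, one_mulVec, one_mulVec]

theorem det_levMat (A : Matrix (Fin m) (Fin m) F) : (levMat A).det = A.det := by
  rw [Matrix.det_succ_row_zero, Fin.sum_univ_succ]
  have h0 : (levMat A).submatrix Fin.succ (Fin.succAbove 0) = A := by
    ext i j
    simp [levMat]
  rw [h0]
  simp [levMat]

/-- the block embedding `A ↦ diag(1, A)` of `SL_m` in `SL_{m+1}` -/
def lev : SpecialLinearGroup (Fin m) F →* SpecialLinearGroup (Fin (m + 1)) F where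
  toFun A := ⟨levMat A.1, by rw [det_levMat]; exact A.2⟩
  map_one' := Subtype.ext levMat_one
  map_mul' A B := Subtype.ext (levMat_mul A.1 B.1)

theorem lev_val (A : SpecialLinearGroup (Fin m) F) : (lev A).1 = levMat A.1 := rfl

theorem lev_mulVec (A : SpecialLinearGroup (Fin m) F) (s : F) (c : Fin m → F) :
    (lev A).1 *ᵥ (Fin.cons s c : Fin (m + 1) → F) = Fin.cons s (A.1 *ᵥ c) := levMat_mulVec _ _ _

theorem vecMul_lev (A : SpecialLinearGroup (Fin m) F) (s : F) (c : Fin m → F) :
    (Fin.cons s c : Fin (m + 1) → F) ᵥ* (lev A).1 = Fin.cons s (c ᵥ* A.1) := vecMul_levMat _ _ _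

section weights

variable [Fintype F] [DecidableEq F] {d : ℕ}

/-- projection onto the weight space of weight `c` of the group `rad` -/
noncomputable def EE (ψ : AddChar F ℂ) (R : SpecialLinearGroup (Fin (m + 1)) F →* Matrix (Fin d) (Fin d) ℂ)
    (c : Fin m → F) : Matrix (Fin d) (Fin d) ℂ :=
  eOp ψ rad R c

/-- the representation twisted by the inverse transpose automorphism -/
noncomputable def tw (R : SpecialLinearGroup (Fin (m + 1)) F →* Matrix (Fin d) (Fin d) ℂ) :
    SpecialLinearGroup (Fin (m + 1)) F →* Matrix (Fin d) (Fin d) ℂ :=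
  R.comp invT.toMonoidHom

theorem tw_apply (R : SpecialLinearGroup (Fin (m + 1)) F →* Matrix (Fin d) (Fin d) ℂ)
    (g : SpecialLinearGroup (Fin (m + 1)) F) : tw R g = R (invT g) := rfl

end weights

end Cfsg.Agent.Lib.Helper44.SLW
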