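import Mathlib
import Cfsg.Agent.Lib.Helper44.SLW.Defs
import Cfsg.Agent.Lib.Helper47.SLn
import Cfsg.Agent.Lib.Helper44.Weights

set_option autoImplicit false
set_option linter.unusedSimpArgs false

namespace Cfsg.Agent.Lib.Helper44.SLW

open Matrix
open Cfsg.Agent.Lib.Helper5.MinIdx

variable {F : Type*} [Field F]

theorem rad_val {m : ℕ} (y : Fin m → F) :
    (rad y).1 = 1 + vecMulVec (e0 : Fin (m + 1) → F) (Fin.cons 0 y) :=
  tr_val (cons_zero_dot_e0 y)

theorem rad_zero' {m : ℕ} : rad (0 : Fin m → F) = 1 := by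
  apply Subtype.ext
  rw [rad_val]
  ext i j
  refine Fin.cases ?_ (fun j' => ?_) j <;> simp [vecMulVec_apply]

theorem rad_single {m : ℕ} (j : Fin m) (t : F) :
    rad (Pi.single j t : Fin m → F) =
      SpecialLinearGroup.transvection (Fin.succ_ne_zero j).symm t := by
  apply Subtype.ext
  rw [rad_val, SpecialLinearGroup.transvection_coe]
  congr 1
  ext a b
  refine Fin.cases ?_ (fun b' => ?_) b
  · simp [vecMulVec_apply, Matrix.single_apply, (Fin.succ_ne_zero j)]
  · by_cases ha : a = 0
    · subst ha
      by_cases hb : b' = j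
      · subst hb
        simp [vecMulVec_apply, Matrix.single_apply, e0]
      · have hb' : j ≠ b' := fun h => hb h.symm
        simp [vecMulVec_apply, Matrix.single_apply, e0, hb, hb']
    · have ha' : (0 : Fin (m + 1)) ≠ a := fun h => ha h.symm
      simp [vecMulVec_apply, Matrix.single_apply, e0, ha, ha']

theorem lev_transvection {m : ℕ} {i j : Fin m} (h : i ≠ j) (t : F) :
    lev (SpecialLinearGroup.transvection h t) =
      SpecialLinearGroup.transvection (fun h' => h (Fin.succ_injective _ h') :
        Fin.succ i ≠ Fin.succ j) t := by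
  apply Subtype.ext
  rw [lev_val, SpecialLinearGroup.transvection_coe, SpecialLinearGroup.transvection_coe]
  ext a b
  refine Fin.cases ?_ (fun a' => ?_) a <;> refine Fin.cases ?_ (fun b' => ?_) b
  · simp [levMat, Matrix.single_apply, (Fin.succ_ne_zero _)]
  · simp [levMat, Matrix.single_apply, (Fin.succ_ne_zero _), (Fin.succ_ne_zero _).symm]
  · simp [levMat, Matrix.single_apply, (Fin.succ_ne_zero _), (Fin.succ_ne_zero _).symm]
  · simp [levMat, Matrix.single_apply, Matrix.one_apply]

/-- RUNG STAB. The stabiliser of `e0` in `SL_{m+1}(F)` is generated by the elementary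
transvections `1 + t E_{ij}`, `j ≠ 0`. -/
theorem stab_induction (m : ℕ) (P : SpecialLinearGroup (Fin (m + 1)) F → Prop) (h1 : P 1)
    (hmul : ∀ A B, P A → P B → P (A * B))
    (htr : ∀ (i j : Fin (m + 1)) (h : i ≠ j) (t : F), j ≠ 0 →
      P (SpecialLinearGroup.transvection h t))
    (A : SpecialLinearGroup (Fin (m + 1)) F) (hA : A.1 *ᵥ e0 = e0) : P A := by
  classical
  -- the unipotent radical
  have hrad : ∀ y : Fin m → F, P (rad y) := by
    intro y
    have key : ∀ s : Finset (Fin m), P (rad (∑ j ∈ s, Pi.single j (y j))) := by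
      intro s
      induction s using Finset.induction_on with
      | empty => rw [Finset.sum_empty, rad_zero']; exact h1
      | insert a s ha ih =>
        rw [Finset.sum_insert ha, rad_add, rad_single]
        exact hmul _ _ (htr _ _ _ _ (Fin.succ_ne_zero a)) ih
    have := key Finset.univ
    rwa [Finset.univ_sum_single] at this
  -- the Levi factor
  have hlev : ∀ B : SpecialLinearGroup (Fin m) F, P (lev B) := by
    intro B
    rcases Nat.lt_or_ge m 2 with hm | hm
    · have : Subsingleton (Fin m) := by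
        rw [Fin.subsingleton_iff_le_one]; omega
      have hB : B = 1 := Subsingleton.elim _ _
      rw [hB, map_one]
      exact h1
    · have : Nontrivial (Fin m) := Fin.nontrivial_iff_two_le.mpr hm
      refine Cfsg.Agent.Lib.Helper47.transvection_induction (fun B => P (lev B)) ?_ ?_ B
      · intro i j h c
        rw [lev_transvection]
        exact htr _ _ _ _ (Fin.succ_ne_zero j)
      · intro A B hA hB
        rw [map_mul]
        exact hmul _ _ hA hB
  -- the decomposition
  have hcol : ∀ i, A.1 i 0 = (e0 : Fin (m + 1) → F) i := by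
    intro i
    have := congrFun hA i
    simpa [e0, Matrix.mulVec_single] using this
  let B0 : Matrix (Fin m) (Fin m) F := fun i j => A.1 i.succ j.succ
  let r : Fin m → F := fun j => A.1 0 j.succ
  have hdec : A.1 = levMat B0 * (rad r).1 := by
    have he : levMat B0 *ᵥ (e0 : Fin (m + 1) → F) = e0 := by
      rw [e0_eq_cons, levMat_mulVec, Matrix.mulVec_zero]
    rw [rad_val, Matrix.mul_add, Matrix.mul_one, Matrix.mul_vecMulVec, he]
    ext a b
    refine Fin.cases ?_ (fun a' => ?_) a <;> refine Fin.cases ?_ (fun b' => ?_) b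
    · rw [hcol]; simp [levMat, vecMulVec_apply, e0]
    · simp [levMat, vecMulVec_apply, e0, r]
    · rw [hcol]; simp [levMat, vecMulVec_apply, e0]
    · simp [levMat, vecMulVec_apply, e0, B0, (Fin.succ_ne_zero _)]
  have hdet : B0.det = 1 := by
    have := congrArg Matrix.det hdec
    rw [Matrix.det_mul, det_levMat, (rad r).2, mul_one, A.2] at this
    exact this.symm
  have hfin : A = lev ⟨B0, hdet⟩ * rad r := Subtype.ext hdec
  rw [hfin]
  exact hmul _ _ (hlev _) (hrad _)

/-- RUNG TRANS. `SL_{m+1}(F)`, `m ≥ 1`, is transitive on nonzero vectors. -/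
theorem exists_mulVec_eq (m : ℕ) (hm : 1 ≤ m) (c : Fin (m + 1) → F) (hc : c ≠ 0) :
    ∃ A : SpecialLinearGroup (Fin (m + 1)) F, A.1 *ᵥ e0 = c := by
  classical
  have : Nontrivial (Fin (m + 1)) := Fin.nontrivial_iff_two_le.mpr (by omega)
  have he0 : (e0 : Fin (m + 1) → F) ≠ 0 := by
    intro h
    have := congrFun h 0
    simp [e0] at this
  refine Cfsg.Agent.Lib.Helper44.elem_closure
    (fun c => ∃ A : SpecialLinearGroup (Fin (m + 1)) F, A.1 *ᵥ e0 = c) ?_ e0 c he0 hc
    ⟨1, by simp⟩
  rintro c i j t hij ⟨A, rfl⟩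
  refine ⟨SpecialLinearGroup.transvection hij t * A, ?_⟩
  change ((SpecialLinearGroup.transvection hij t).1 * A.1) *ᵥ e0 = _
  rw [← Matrix.mulVec_mulVec]
  funext k
  have := Cfsg.Agent.Lib.Helper47.transvection_smul_apply hij t (A.1 *ᵥ e0) k
  rw [Matrix.SpecialLinearGroup.smul_def] at this
  refine this.trans ?_
  by_cases hk : k = i
  · subst hk; simp
  · simp [hk]

end Cfsg.Agent.Lib.Helper44.SLW
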